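import Groth.Prelude.Def_RegImm
import Groth.Agent.S5802
import Groth.Agent.EGA41Lib.QuasiRegular
import Mathlib.AlgebraicGeometry.Noetherian
import Mathlib.AlgebraicGeometry.Morphisms.Affine
import Mathlib.RingTheory.Localization.AtPrime.Basic

/-!
# Regular and quasi-regular sequences, ideal sheaves and immersions
-/

set_option autoImplicit false
set_option backward.isDefEq.respectTransparency.types false
set_option backward.isDefEq.respectTransparency false

universe u

open CategoryTheory AlgebraicGeometry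

namespace Groth.Agent.Nrm16Lib

section algebra

variable {R : Type u} [CommRing R]

theorem isQuasiRegular_get_of_isWeaklyRegular {rs : List R}
    (h : RingTheory.Sequence.IsWeaklyRegular R rs) : CAlgX.IsQuasiRegular rs.get :=
  Groth.Agent.S5802.result R rs.length rs.get (by rwa [List.ofFn_get])

/-- Quasi-regularity is preserved by localization. -/
theorem isQuasiRegular_localization (M : Submonoid R) (L : Type u) [CommRing L] [Algebra R L]
    [IsLocalization M L] {c : ℕ} {f : Fin c → R} (h : CAlgX.IsQuasiRegular f) :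
    CAlgX.IsQuasiRegular (algebraMap R L ∘ f) := by
  classical
  intro n P hP heval d
  obtain ⟨b, hb⟩ := IsLocalization.exist_integer_multiples M P.support (fun d => P.coeff d)
  choose! a ha using hb
  let P' : MvPolynomial (Fin c) R := ∑ d ∈ P.support, MvPolynomial.monomial d (a d)
  have hcoeff : ∀ d, P'.coeff d = if d ∈ P.support then a d else 0 := fun d => by
    simp [P', MvPolynomial.coeff_sum, MvPolynomial.coeff_monomial]
  have hP'h : P'.IsHomogeneous n := by
    refine MvPolynomial.IsHomogeneous.sum _ _ _ fun d hd => MvPolynomial.isHomogeneous_monomial _ ?_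
    have := hP (MvPolynomial.mem_support_iff.mp hd)
    rwa [Finsupp.degree_eq_weight_one]
  have hmap : MvPolynomial.map (algebraMap R L) P' = MvPolynomial.C (algebraMap R L b) * P := by
    ext d
    rw [MvPolynomial.coeff_map, hcoeff, MvPolynomial.coeff_C_mul]
    split_ifs with hd
    · rw [ha d hd]
      exact Algebra.smul_def _ _
    · rw [MvPolynomial.notMem_support_iff.mp hd, mul_zero, map_zero]
  have hspan : Ideal.span (Set.range (algebraMap R L ∘ f)) =
      (Ideal.span (Set.range f)).map (algebraMap R L) := by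
    rw [Ideal.map_span, Set.range_comp]
  have he : algebraMap R L (MvPolynomial.eval f P') ∈
      (Ideal.span (Set.range f) ^ (n + 1)).map (algebraMap R L) := by
    have : algebraMap R L (MvPolynomial.eval f P') =
        MvPolynomial.eval (algebraMap R L ∘ f) (MvPolynomial.map (algebraMap R L) P') := by
      rw [MvPolynomial.eval_map, ← MvPolynomial.eval₂_comp]
    rw [this, hmap, map_mul, Ideal.map_pow, ← hspan]
    exact Ideal.mul_mem_left _ _ heval
  rw [IsLocalization.algebraMap_mem_map_algebraMap_iff M] at he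
  obtain ⟨m, hm, hmem⟩ := he
  have hd := h n (MvPolynomial.C m * P') (hP'h.C_mul m) (by rw [map_mul, MvPolynomial.eval_C]; exact hmem) d
  rw [MvPolynomial.coeff_C_mul] at hd
  have := Ideal.mem_map_of_mem (algebraMap R L) hd
  rw [map_mul, ← MvPolynomial.coeff_map, hmap, MvPolynomial.coeff_C_mul] at this
  rw [hspan]
  exact (Ideal.unit_mul_mem_iff_mem _ (IsLocalization.map_units L b)).1
    ((Ideal.unit_mul_mem_iff_mem _ (IsLocalization.map_units L (⟨m, hm⟩ : M))).1 this)

theorem isWeaklyRegular_iff_forall_mem {rs : List R} :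
    RingTheory.Sequence.IsWeaklyRegular R rs ↔ ∀ (i : ℕ) (hi : i < rs.length) (x : R),
      rs[i] * x ∈ Ideal.ofList (rs.take i) → x ∈ Ideal.ofList (rs.take i) := by
  refine ⟨fun h i hi => ?_, fun h => ⟨fun i hi => ?_⟩⟩
  · have := h.regular_mod_prev i hi
    simpa [isSMulRegular_quotient_iff_mem_of_smul_mem, smul_eq_mul, Ideal.mul_top] using this
  · simpa [isSMulRegular_quotient_iff_mem_of_smul_mem, smul_eq_mul, Ideal.mul_top] using h i hi

/-- A quasi-regular sequence in a prime of a Noetherian ring is regular near that prime. -/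
theorem exists_notMem_colon [IsNoetherianRing R] (p : Ideal R) [p.IsPrime] {rs : List R}
    (hp : ∀ r ∈ rs, r ∈ p) (h : CAlgX.IsQuasiRegular rs.get) :
    ∃ g : R, g ∉ p ∧ ∀ (i : ℕ) (hi : i < rs.length) (x : R),
      rs[i] * x ∈ Ideal.ofList (rs.take i) → g * x ∈ Ideal.ofList (rs.take i) := by
  classical
  let A := Localization.AtPrime p
  have hq := isQuasiRegular_localization p.primeCompl A h
  have hreg : RingTheory.Sequence.IsWeaklyRegular A (List.ofFn (algebraMap R A ∘ rs.get)) := by
    refine Groth.Agent.EGA41Lib.isWeaklyRegular_of_isQuasiRegular rs.length A _ (fun i m hm => ?_) hq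
    have := hm
    rw [IsLocalRing.eq_maximalIdeal this]
    exact (IsLocalization.AtPrime.to_map_mem_maximal_iff A p _).2 (hp _ (List.get_mem _ _))
  rw [← List.map_ofFn, List.ofFn_get, isWeaklyRegular_iff_forall_mem] at hreg
  have key : ∀ i : Fin rs.length, ∃ g : R, g ∉ p ∧ ∀ x : R,
      rs[i.1] * x ∈ Ideal.ofList (rs.take i) → g * x ∈ Ideal.ofList (rs.take i) := by
    intro i
    let J := Ideal.ofList (rs.take i)
    let K : Ideal R := Submodule.comap (LinearMap.mulLeft R rs[i.1]) J
    obtain ⟨s, hs⟩ := (isNoetherianRing_iff_ideal_fg R).1 inferInstance K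
    have hx : ∀ x : s, ∃ g : R, g ∉ p ∧ g * x ∈ J := by
      intro x
      have hxK : rs[i.1] * (x : R) ∈ J := show (x : R) ∈ K from hs ▸ Submodule.subset_span x.2
      have h1 := hreg i.1 (by simpa using i.2) (algebraMap R A x) (by
        simp only [List.getElem_map, ← List.map_take, ← Ideal.map_ofList, ← map_mul]
        exact Ideal.mem_map_of_mem _ hxK)
      simp only [← List.map_take, ← Ideal.map_ofList] at h1
      rw [IsLocalization.algebraMap_mem_map_algebraMap_iff p.primeCompl] at h1
      obtain ⟨g, hg, hgx⟩ := h1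
      exact ⟨g, hg, hgx⟩
    choose g hg hgx using hx
    refine ⟨∏ x, g x, fun hmem => ?_, fun x hx => ?_⟩
    · obtain ⟨x, -, hx⟩ := Ideal.IsPrime.prod_mem_iff.1 hmem
      exact hg x hx
    · have : K ≤ Submodule.comap (LinearMap.mulLeft R (∏ x, g x)) J := by
        rw [← hs]
        refine Ideal.span_le.2 fun y hy => ?_
        show (∏ x, g x) * y ∈ J
        rw [← Finset.mul_prod_erase Finset.univ g (Finset.mem_univ (⟨y, hy⟩ : s)), mul_right_comm]
        exact Ideal.mul_mem_right _ _ (hgx ⟨y, hy⟩)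
      exact this hx
  choose g hg hgx using key
  refine ⟨∏ i, g i, fun hmem => ?_, fun i hi x hx => ?_⟩
  · obtain ⟨i, -, hi⟩ := Ideal.IsPrime.prod_mem_iff.1 hmem
    exact hg i hi
  · rw [← Finset.mul_prod_erase Finset.univ g (Finset.mem_univ (⟨i, hi⟩ : Fin rs.length)),
      mul_right_comm]
    exact Ideal.mul_mem_right _ _ (hgx ⟨i, hi⟩ x hx)

/-- ... hence regular on a basic open neighbourhood. -/
theorem isRegular_away (p : Ideal R) [p.IsPrime] {rs : List R} (hp : ∀ r ∈ rs, r ∈ p) {g : R}
    (hg : g ∉ p) (h : ∀ (i : ℕ) (hi : i < rs.length) (x : R),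
      rs[i] * x ∈ Ideal.ofList (rs.take i) → g * x ∈ Ideal.ofList (rs.take i))
    (L : Type u) [CommRing L] [Algebra R L] [IsLocalization.Away g L] :
    RingTheory.Sequence.IsRegular L (rs.map (algebraMap R L)) := by
  refine ⟨isWeaklyRegular_iff_forall_mem.2 fun i hi x hx => ?_, ?_⟩
  · have hi' : i < rs.length := by simpa using hi
    simp only [List.getElem_map, ← List.map_take, ← Ideal.map_ofList] at hx ⊢
    obtain ⟨⟨b, t⟩, hb⟩ := IsLocalization.surj (Submonoid.powers g) x
    have hx' : algebraMap R L (rs[i] * b) ∈ (Ideal.ofList (rs.take i)).map (algebraMap R L) := by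
      rw [map_mul, ← hb, ← mul_assoc]
      exact Ideal.mul_mem_right _ _ hx
    rw [IsLocalization.algebraMap_mem_map_algebraMap_iff (Submonoid.powers g)] at hx'
    obtain ⟨m, hm, hmx⟩ := hx'
    have h2 := h i hi' (m * b) (by rwa [mul_left_comm])
    have hu : IsUnit (algebraMap R L (g * m)) := by
      rw [map_mul]
      exact (IsLocalization.Away.algebraMap_isUnit g).mul (IsLocalization.map_units L ⟨m, hm⟩)
    have := Ideal.mem_map_of_mem (algebraMap R L) h2
    rw [← mul_assoc, map_mul, Ideal.unit_mul_mem_iff_mem _ hu, ← hb] at this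
    exact (Ideal.mul_unit_mem_iff_mem _ (IsLocalization.map_units L t)).1 this
  · rw [smul_eq_mul, Ideal.mul_top, ← Ideal.map_ofList]
    intro hc
    have h1 : algebraMap R L 1 ∈ (Ideal.ofList rs).map (algebraMap R L) := hc ▸ Submodule.mem_top
    rw [IsLocalization.algebraMap_mem_map_algebraMap_iff (Submonoid.powers g)] at h1
    obtain ⟨m, ⟨k, rfl⟩, hm⟩ := h1
    rw [mul_one] at hm
    have hle : Ideal.ofList rs ≤ p := Ideal.span_le.2 fun r hr => hp r hr
    exact hg (Ideal.IsPrime.mem_of_pow_mem ‹_› k (hle hm))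

end algebra

variable {X Z : Scheme.{u}}

theorem isRegularIdeal_quasi_of_regular {I : X.IdealSheafData}
    (h : RegImm.IsRegularIdeal .regular I) : RegImm.IsRegularIdeal .quasi I := fun x hx => by
  obtain ⟨U, hxU, rs, hrs, hI⟩ := h x hx
  exact ⟨U, hxU, rs, isQuasiRegular_get_of_isWeaklyRegular hrs.toIsWeaklyRegular, hI⟩

theorem isRegularImmersion_quasi_of_regular {j : Z ⟶ X}
    (h : RegImm.IsRegularImmersion .regular j) : RegImm.IsRegularImmersion .quasi j :=
  ⟨h.1, fun z => by
    obtain ⟨U, hzU, hc, rs, hrs, hI⟩ := h.2 z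
    exact ⟨U, hzU, hc, rs, isQuasiRegular_get_of_isWeaklyRegular hrs.toIsWeaklyRegular, hI⟩⟩

theorem exists_basicOpen_isRegular [IsLocallyNoetherian X] (U : X.affineOpens) {x : X} (hx : x ∈ U.1)
    {rs : List Γ(X, U.1)} (hrs : ∀ r ∈ rs, x ∉ X.basicOpen r)
    (h : CAlgX.IsQuasiRegular rs.get) :
    ∃ g : Γ(X, U.1), x ∈ X.basicOpen g ∧
      RingTheory.Sequence.IsRegular Γ(X, X.basicOpen g)
        (rs.map (X.presheaf.map (homOfLE (X.basicOpen_le g)).op).hom) := by
  haveI := IsLocallyNoetherian.component_noetherian U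
  let p := (U.2.primeIdealOf ⟨x, hx⟩).asIdeal
  have hmem : ∀ g : Γ(X, U.1), x ∈ X.basicOpen g ↔ g ∉ p := fun g => by
    rw [← PrimeSpectrum.mem_basicOpen, IsAffineOpen.primeIdealOf, ← U.2.fromSpec_preimage_basicOpen,
      Scheme.Hom.mem_preimage, ← Scheme.Hom.comp_apply, IsAffineOpen.isoSpec_hom,
      IsAffineOpen.toSpecΓ_fromSpec]
    rfl
  have hp : ∀ r ∈ rs, r ∈ p := fun r hr => by
    have := hrs r hr
    rwa [hmem, not_not] at this
  obtain ⟨g, hg, hg'⟩ := exists_notMem_colon p hp h
  refine ⟨g, (hmem g).2 hg, ?_⟩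
  haveI := U.2.isLocalization_basicOpen g
  exact isRegular_away p hp hg hg' Γ(X, X.basicOpen g)

theorem isRegularIdeal_regular_of_quasi [IsLocallyNoetherian X] {I : X.IdealSheafData}
    (h : RegImm.IsRegularIdeal .quasi I) : RegImm.IsRegularIdeal .regular I := fun x hx => by
  obtain ⟨U, hxU, rs, hrs, hI⟩ := h x hx
  have hz : x ∈ X.zeroLocus (U := U.1) (I.ideal U) := (Scheme.IdealSheafData.mem_support_iff_of_mem hxU).1 hx
  have hne : ∀ r ∈ rs, x ∉ X.basicOpen r := fun r hr =>
    (X.mem_zeroLocus_iff _ x).1 hz r (hI ▸ Ideal.subset_span hr)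
  obtain ⟨g, hxg, hreg⟩ := exists_basicOpen_isRegular U hxU hne hrs
  refine ⟨X.affineBasicOpen g, hxg, _, hreg, ?_⟩
  rw [← I.map_ideal_basicOpen U g, hI]
  exact Ideal.map_ofList _ _

theorem isRegularImmersion_regular_of_quasi [IsLocallyNoetherian X] {j : Z ⟶ X}
    (h : RegImm.IsRegularImmersion .quasi j) : RegImm.IsRegularImmersion .regular j :=
  ⟨h.1, fun z => by
    obtain ⟨U, hzU, hc, rs, hrs, hI⟩ := h.2 z
    have hne : ∀ r ∈ rs, j z ∉ X.basicOpen r := fun r hr hz => by
      have h0 : j.app U.1 r = 0 := (hI.ge (Ideal.subset_span hr) :)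
      have hpre : j ⁻¹ᵁ X.basicOpen r = Z.basicOpen (j.app U.1 r) := Scheme.preimage_basicOpen j r
      have : z ∈ Z.basicOpen (j.app U.1 r) := hpre ▸ hz
      rw [h0, Scheme.basicOpen_zero] at this
      exact this
    obtain ⟨g, hxg, hreg⟩ := exists_basicOpen_isRegular U hzU hne hrs
    refine ⟨X.affineBasicOpen g, hxg, ?_, _, hreg, ?_⟩
    · exact ((MorphismProperty.arrow_mk_iso_iff @IsClosedImmersion
        (morphismRestrictRestrictBasicOpen j U.1 g)).1 (IsZariskiLocalAtTarget.restrict hc _))
    · have hj : IsAffineOpen (j ⁻¹ᵁ U.1) := by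
        haveI : IsAffine U.1.toScheme := U.2
        exact isAffine_of_isAffineHom (j ∣_ U.1)
      haveI := U.2.isLocalization_basicOpen g
      haveI := hj.isLocalization_basicOpen (j.app U.1 g)
      have hpre : j ⁻¹ᵁ X.basicOpen g = Z.basicOpen (j.app U.1 g) := Scheme.preimage_basicOpen j g
      have hsq : (j.appLE (X.basicOpen g) (Z.basicOpen (j.app U.1 g)) hpre.ge).hom =
          IsLocalization.map (Γ(Z, Z.basicOpen (j.app U.1 g))) (j.app U.1).hom
            (M := Submonoid.powers g) (T := Submonoid.powers (j.app U.1 g))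
            ((Submonoid.powers_le (P := (Submonoid.powers (j.app U.1 g)).comap (j.app U.1).hom)).2
              ⟨1, pow_one _⟩) := by
        refine IsLocalization.ringHom_ext (Submonoid.powers g) ?_
        rw [IsLocalization.map_comp]
        show (X.presheaf.map (homOfLE (X.basicOpen_le g)).op ≫ j.appLE _ _ hpre.ge).hom =
          (j.app U.1 ≫ Z.presheaf.map (homOfLE (Z.basicOpen_le (j.app U.1 g))).op).hom
        rw [Scheme.Hom.map_appLE]
        rfl
      have hk := IsLocalization.ker_map (M := Submonoid.powers g) (S := Γ(X, X.basicOpen g))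
        (T := Submonoid.powers (j.app U.1 g)) Γ(Z, Z.basicOpen (j.app U.1 g)) (j.app U.1).hom
        (Submonoid.map_powers _ g)
      rw [← hsq, hI, Ideal.map_ofList] at hk
      refine Eq.trans ?_ hk
      ext a
      simp only [RingHom.mem_ker]
      show _ ↔ Z.presheaf.map (homOfLE hpre.ge).op (j.app (X.basicOpen g) a) = 0
      haveI : IsIso (Z.presheaf.map (homOfLE hpre.ge).op) :=
        inferInstanceAs (IsIso (Z.presheaf.map (eqToHom hpre.symm).op))
      refine (map_eq_zero_iff _ ?_).symm
      exact ((CategoryTheory.ConcreteCategory.bijective_of_isIso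
        (Z.presheaf.map (homOfLE hpre.ge).op))).1⟩

end Groth.Agent.Nrm16Lib
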